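import Groth.Agent.PBasis.Separable

/-!
# Cofinitely many elements of a `p`-basis span a subfield over which an extension is separable
-/

noncomputable section

set_option autoImplicit false
universe u

open scoped TensorProduct

namespace Groth.Agent.ArtSub

open EGA41

variable (p : ℕ) [Fact p.Prime] {P k K : Type u} [Field P] [PerfectRing P p] [CharP P p] [Field k]
  [CharP k p] [Field K] [CharP K p] [Algebra P k] [Algebra k K] [Algebra P K] [IsScalarTower P k K]

omit [CharP P p] [PerfectRing P p] [CharP K p] [Algebra k K] [Algebra P K] [IsScalarTower P k K] [Field K] in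
/-- A subalgebra containing a `p`-basis and all `p^N`-th powers is everything. -/
theorem mem_of_pow_mem {ι : Type u} {x : ι → k} (hx : IsPGenerating p P x) (R : Subalgebra P k)
    (hR : ∀ i, x i ∈ R) : ∀ (N : ℕ), (∀ y : k, y ^ p ^ N ∈ R) → ∀ y : k, y ∈ R := by
  intro N
  induction N with
  | zero => exact fun h y => by simpa using h y
  | succ N ih =>
    refine fun h => ih fun y => ?_
    rw [PBasis.isPGenerating_iff (Fact.out : p.Prime).ne_zero] at hx
    have hy : y ∈ Algebra.adjoin (pPowerSubalgebra p P k) (Set.range x) := by rw [hx]; trivial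
    induction hy using Algebra.adjoin_induction with
    | mem y hy =>
      obtain ⟨i, rfl⟩ := hy
      exact pow_mem (hR i) _
    | algebraMap a =>
      obtain ⟨a, ha⟩ := a
      change a ^ p ^ N ∈ R
      induction ha using Algebra.adjoin_induction with
      | mem z hz =>
        obtain ⟨c, rfl⟩ := hz
        change (c ^ p) ^ p ^ N ∈ R
        rw [← pow_mul, ← pow_succ']
        exact h c
      | algebraMap c => rw [← map_pow]; exact R.algebraMap_mem _
      | add a b _ _ ha hb => rw [add_pow_char_pow]; exact add_mem ha hb
      | mul a b _ _ ha hb => rw [mul_pow]; exact mul_mem ha hb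
    | add a b _ _ ha hb => rw [add_pow_char_pow]; exact add_mem ha hb
    | mul a b _ _ ha hb => rw [mul_pow]; exact mul_mem ha hb

variable (P K) in
include p in
omit [CharP k p] [Algebra P k] [Algebra k K] [IsScalarTower P k K] [Field k] in
/-- An extension is formally smooth over a subfield generated by elements with independent differentials. -/
theorem formallySmooth_of_generators {L : Type u} [Field L] [Algebra P L] [Algebra L K] [IsScalarTower P L K]
    (U : Set L) (hgen : ∀ y : L, y ∈ IntermediateField.adjoin P U)
    (hli : LinearIndependent K fun i : U => KaehlerDifferential.D P K (algebraMap L K i)) :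
    Algebra.FormallySmooth L K := by
  classical
  have : CharP L p := charP_of_injective_algebraMap (algebraMap P L).injective p
  rw [PBasis.formallySmooth_iff_injective_mapBaseChange p (P := P)]
  let v : U → K ⊗[L] Ω[L⁄P] := fun i => 1 ⊗ₜ KaehlerDifferential.D P L i
  let M := Submodule.span L (Set.range fun i : U => KaehlerDifferential.D P L i)
  have hspan₀ : M = ⊤ := by
    refine top_le_iff.1 ((KaehlerDifferential.span_range_derivation P L).ge.trans (Submodule.span_le.2 ?_))
    rintro _ ⟨y, rfl⟩
    have hy := hgen y
    change KaehlerDifferential.D P L y ∈ M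
    induction hy using IntermediateField.adjoin_induction with
    | mem z hz => exact Submodule.subset_span ⟨⟨z, hz⟩, rfl⟩
    | algebraMap c => rw [Derivation.map_algebraMap]; exact zero_mem _
    | add a b _ _ h1 h2 => rw [map_add]; exact add_mem h1 h2
    | inv a _ h1 => rw [Derivation.leibniz_inv]; exact Submodule.smul_mem _ _ h1
    | mul a b _ _ h1 h2 =>
      rw [Derivation.leibniz]
      exact add_mem (Submodule.smul_mem _ _ h2) (Submodule.smul_mem _ _ h1)
  have hspan : Submodule.span K (Set.range v) = ⊤ := by
    rw [← top_le_iff]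
    rintro w -
    induction w using TensorProduct.induction_on with
    | zero => exact zero_mem _
    | tmul c ω =>
      rw [← mul_one c, ← smul_eq_mul, ← TensorProduct.smul_tmul']
      refine Submodule.smul_mem _ c ?_
      have hω : ω ∈ M := hspan₀ ▸ trivial
      induction hω using Submodule.span_induction with
      | mem z hz => obtain ⟨i, rfl⟩ := hz; exact Submodule.subset_span ⟨i, rfl⟩
      | zero => rw [TensorProduct.tmul_zero]; exact zero_mem _
      | add a b _ _ ha hb => rw [TensorProduct.tmul_add]; exact add_mem ha hb
      | smul r a _ ha =>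
        rw [TensorProduct.tmul_smul, ← IsScalarTower.algebraMap_smul K r]
        exact Submodule.smul_mem _ _ ha
    | add a b ha hb => exact add_mem ha hb
  rw [← LinearMap.ker_eq_bot, LinearMap.ker_eq_bot']
  intro w hw
  have hw' : w ∈ Submodule.span K (Set.range v) := hspan ▸ trivial
  obtain ⟨c, rfl⟩ := Finsupp.mem_span_range_iff_exists_finsupp.1 hw'
  rw [map_finsuppSum] at hw
  have hc : c = 0 := linearIndependent_iff.1 hli c (by
    rw [Finsupp.linearCombination_apply]
    rw [← hw]
    refine Finsupp.sum_congr fun i _ => ?_
    rw [map_smul, KaehlerDifferential.mapBaseChange_tmul, one_smul, KaehlerDifferential.map_D])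
  simp [hc]

variable (P K) in
include p in
omit [CharP k p] in
/-- The version for a generated intermediate field. -/
theorem formallySmooth_adjoin (U : Set k)
    (hli : LinearIndependent K fun i : U => KaehlerDifferential.D P K (algebraMap k K i)) :
    Algebra.FormallySmooth (IntermediateField.adjoin P U) K := by
  refine formallySmooth_of_generators p P K (L := IntermediateField.adjoin P U) (Subtype.val ⁻¹' U)
    (fun y => ?_) ?_
  · obtain ⟨y, hy⟩ := y
    induction hy using IntermediateField.adjoin_induction with
    | mem z hz => exact IntermediateField.subset_adjoin P _ hz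
    | algebraMap c => exact IntermediateField.algebraMap_mem _ c
    | add a b ha hb h1 h2 => exact add_mem h1 h2
    | inv a ha h1 => exact inv_mem h1
    | mul a b ha hb h1 h2 => exact mul_mem h1 h2
  · exact hli.comp (fun i : (Subtype.val ⁻¹' U : Set (IntermediateField.adjoin P U)) => (⟨i.1.1, i.2⟩ : U))
      fun i j h => Subtype.ext (Subtype.ext (congrArg (fun z : U => (z : k)) h))

variable (P k K) in
/-- If `H₁(L_{K/k})` is finite-dimensional, then `K` is formally smooth over the field generated by all but
finitely many members of a `p`-basis of `k`. -/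
theorem exists_cofinite (hH : Module.Finite K (Algebra.H1Cotangent k K)) :
    ∃ (k₁ : IntermediateField P k) (S : Finset k), Algebra.FormallySmooth k₁ K ∧
      ∀ (R : Subalgebra P k), (∀ y ∈ k₁, y ∈ R) → (∀ y ∈ S, y ∈ R) →
        ∀ (N : ℕ), (∀ y : k, y ^ p ^ N ∈ R) → ∀ y : k, y ∈ R := by
  classical
  obtain ⟨T, hT⟩ := PBasis.exists_pBasis p P k
  obtain ⟨b, hb⟩ : ∃ b : Module.Basis T k (Ω[k⁄P]), ∀ i, b i = KaehlerDifferential.D P k i :=
    ⟨Module.Basis.mk ((PBasis.isPIndependent_iff_linearIndependent _).1 hT.1)
      ((PBasis.isPGenerating_iff_span _).1 hT.2).ge, fun i => Module.Basis.mk_apply _ _ i⟩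
  let B : Module.Basis T K (K ⊗[k] Ω[k⁄P]) := Algebra.TensorProduct.basis K b
  obtain ⟨g, hg⟩ := hH.fg_top
  let S₀ : Finset T := g.biUnion fun z => (B.repr (Algebra.H1Cotangent.δ P k K z)).support
  let φ := KaehlerDifferential.mapBaseChange P k K
  have hsupp : ∀ w, φ w = 0 → B.repr w ∈ Finsupp.supported K K (S₀ : Set T) := by
    intro w hw
    obtain ⟨z, rfl⟩ := (Algebra.H1Cotangent.exact_δ_mapBaseChange (R := P) (S := k) (T := K) w).1 hw
    have hz : z ∈ Submodule.span K (g : Set _) := by rw [hg]; trivial
    induction hz using Submodule.span_induction with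
    | mem z hz =>
      rw [Finsupp.mem_supported]
      exact fun i hi => Finset.mem_biUnion.2 ⟨z, hz, hi⟩
    | zero => rw [map_zero, map_zero]; exact zero_mem _
    | add x y _ _ hx hy =>
      rw [map_add, map_add]
      exact add_mem (hx (Algebra.H1Cotangent.exact_δ_mapBaseChange (R := P) (S := k) (T := K) _ |>.2 ⟨x, rfl⟩))
        (hy (Algebra.H1Cotangent.exact_δ_mapBaseChange (R := P) (S := k) (T := K) _ |>.2 ⟨y, rfl⟩))
    | smul c x _ hx =>
      rw [map_smul, map_smul]
      exact Submodule.smul_mem _ c
        (hx (Algebra.H1Cotangent.exact_δ_mapBaseChange (R := P) (S := k) (T := K) _ |>.2 ⟨x, rfl⟩))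
  let U : Set T := (S₀ : Set T)ᶜ
  let k₁ : IntermediateField P k := IntermediateField.adjoin P (Subtype.val '' U)
  have hli : LinearIndependent K fun i : U => KaehlerDifferential.D P K (algebraMap k K (i.1 : k)) := by
    have h : (fun i : U => KaehlerDifferential.D P K (algebraMap k K (i.1 : k))) = φ ∘ fun i : U => B i := by
      funext i
      simp [φ, B, hb, KaehlerDifferential.mapBaseChange_tmul]
    rw [h]
    refine (B.linearIndependent.comp _ Subtype.val_injective).map ?_
    rw [Submodule.disjoint_def]
    intro w hw hker
    have h1 : B.repr w ∈ Finsupp.supported K K U := by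
      rw [Set.range_comp, Subtype.range_coe, Module.Basis.mem_span_image] at hw
      exact hw
    have h2 := hsupp w (LinearMap.mem_ker.1 hker)
    rw [Finsupp.mem_supported] at h1 h2
    refine B.repr.map_eq_zero_iff.1 (Finsupp.support_eq_empty.1 ?_)
    exact Finset.eq_empty_of_forall_notMem fun i hi => h1 hi (h2 hi)
  have : Algebra.FormallySmooth k₁ K := by
    refine formallySmooth_adjoin p P K (Subtype.val '' U) ?_
    rw [← linearIndependent_equiv (Equiv.Set.image _ U Subtype.val_injective)]
    exact hli
  refine ⟨k₁, S₀.map ⟨Subtype.val, Subtype.val_injective⟩, this, fun R h1 h2 => mem_of_pow_mem p hT.2 R fun i => ?_⟩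
  by_cases hi : i ∈ S₀
  · exact h2 _ (Finset.mem_map.2 ⟨i, hi, rfl⟩)
  · exact h1 _ (IntermediateField.subset_adjoin P _ ⟨i, hi, rfl⟩)

end Groth.Agent.ArtSub
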