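import Groth.Agent.ArtSub.Field
import Mathlib.RingTheory.Smooth.Basic
import Mathlib.RingTheory.EssentialFiniteness
import Mathlib.RingTheory.Flat.Basic
import Mathlib.RingTheory.Artinian.Ring

/-!
# Artinian local algebras are unions of essentially finite type Artinian subalgebras
-/

noncomputable section

set_option autoImplicit false
universe u

open scoped TensorProduct
open IsLocalRing

namespace Groth.Agent.ArtSub

section Coefficient

variable {K Λ : Type u} [Field K] [CommRing Λ] [IsLocalRing Λ] [IsArtinianRing Λ] [Algebra K Λ]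

/-- An Artinian local ring is finite over a coefficient field. -/
theorem finite_of_residue_surjective (hs : Function.Surjective ((residue Λ).comp (algebraMap K Λ))) :
    Module.Finite K Λ := by
  classical
  obtain ⟨g, hg⟩ := (IsNoetherian.noetherian (maximalIdeal Λ))
  obtain ⟨N, hN⟩ := (IsArtinianRing.isNilpotent_jacobson_bot (R := Λ))
  rw [IsLocalRing.jacobson_eq_maximalIdeal ⊥ bot_ne_top] at hN
  let S := Algebra.adjoin K (g : Set Λ)
  have key : ∀ i : ℕ, ∀ z : Λ, ∃ s ∈ S, z - s ∈ maximalIdeal Λ ^ i := by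
    intro i
    induction i with
    | zero => exact fun z => ⟨0, zero_mem _, by simp⟩
    | succ i ih =>
      intro z
      obtain ⟨c, hc⟩ := hs (residue Λ z)
      have hm : z - algebraMap K Λ c ∈ Submodule.span Λ (g : Set Λ) :=
        hg ▸ Ideal.Quotient.eq.1 hc.symm
      obtain ⟨w, -, hw⟩ := Submodule.mem_span_finset.1 hm
      choose t ht ht' using fun a => ih (w a)
      refine ⟨algebraMap K Λ c + ∑ a ∈ g, t a * a, add_mem (S.algebraMap_mem c)
        (sum_mem fun a ha => mul_mem (ht a) (Algebra.subset_adjoin ha)), ?_⟩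
      rw [← sub_sub, ← hw, ← Finset.sum_sub_distrib, pow_succ]
      refine Ideal.sum_mem _ fun a ha => ?_
      rw [smul_eq_mul, ← sub_mul]
      exact Ideal.mul_mem_mul (ht' a) (hg ▸ Submodule.subset_span ha)
  have htop : S = ⊤ := by
    refine top_le_iff.1 fun z _ => ?_
    obtain ⟨s, hs, h⟩ := key N z
    rw [hN, Submodule.zero_eq_bot, Submodule.mem_bot, sub_eq_zero] at h
    rwa [h]
  refine ⟨?_⟩
  have h := fg_adjoin_of_finite (R := K) g.finite_toSet fun x hx => ?_
  · rwa [show Algebra.adjoin K (g : Set Λ) = ⊤ from htop, Algebra.top_toSubmodule] at h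
  · refine ⟨Polynomial.X ^ N, Polynomial.monic_X_pow N, ?_⟩
    have := Ideal.pow_mem_pow (hg ▸ Submodule.subset_span hx : x ∈ maximalIdeal Λ) N
    rw [hN, Submodule.zero_eq_bot, Submodule.mem_bot] at this
    simpa using this

end Coefficient

section Main

variable {P k K Λ : Type u} [Field P] [Field k] [Field K] [CommRing Λ] [IsLocalRing Λ]
  [Algebra P k] [Algebra k K] [Algebra k Λ] [Algebra K Λ]

/-- The elements whose coordinates lie in a subfield containing the structure constants. -/
def coordSubalgebra {ι : Type u} [Fintype ι] (e : Module.Basis ι K Λ) (K₀ : IntermediateField k K)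
    (hk : ∀ a : k, ∀ i, e.repr (algebraMap k Λ a) i ∈ K₀)
    (hmul : ∀ i j l, e.repr (e i * e j) l ∈ K₀) : Subalgebra k Λ where
  carrier := {z | ∀ i, e.repr z i ∈ K₀}
  algebraMap_mem' := hk
  add_mem' := fun {a b} ha hb i => by rw [map_add, Finsupp.add_apply]; exact add_mem (ha i) (hb i)
  zero_mem' := fun i => by rw [map_zero]; exact zero_mem _
  one_mem' := by rw [← map_one (algebraMap k Λ)]; exact hk 1
  mul_mem' := fun {a b} ha hb l => by
    classical
    rw [← e.sum_repr a, ← e.sum_repr b, Finset.sum_mul, map_sum, Finsupp.finsetSum_apply]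
    refine sum_mem fun i _ => ?_
    rw [Finset.mul_sum, map_sum, Finsupp.finsetSum_apply]
    refine sum_mem fun j _ => ?_
    rw [smul_mul_smul_comm, map_smul, Finsupp.smul_apply, smul_eq_mul]
    exact mul_mem (mul_mem (ha i) (hb j)) (hmul i j l)

/-- The main construction, given a coefficient field. -/
theorem exists_subalgebra [IsArtinianRing Λ] [Algebra P K] [IsScalarTower P k K] (k₁ : IntermediateField P k)
    (S : Finset k) (q : ℕ)
    (hgen : ∀ (R : Subalgebra P k), (∀ y ∈ k₁, y ∈ R) → (∀ y ∈ S, y ∈ R) → (∀ y : k, y ^ q ∈ R) → ∀ y : k, y ∈ R)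
    (hs : Function.Surjective ((residue Λ).comp (algebraMap K Λ)))
    (h₁ : ∀ a ∈ k₁, algebraMap k Λ a = algebraMap K Λ (algebraMap k K a))
    (hq : ∀ a : k, algebraMap k Λ (a ^ q) = algebraMap K Λ (algebraMap k K (a ^ q)))
    (E : Finset Λ) :
    ∃ (A : Subalgebra k Λ) (_ : IsLocalRing A), (↑E : Set Λ) ⊆ A ∧ IsArtinianRing A ∧ Module.Flat A Λ ∧
      Algebra.EssFiniteType k A ∧
      (IsLocalRing.maximalIdeal A).map (algebraMap A Λ) = IsLocalRing.maximalIdeal Λ := by
  classical
  have := finite_of_residue_surjective hs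
  let e := Module.Free.chooseBasis K Λ
  obtain ⟨g, hg⟩ := (IsNoetherian.noetherian (maximalIdeal Λ))
  let ι := Module.Free.ChooseBasisIndex K Λ
  let crd : Finset Λ → Finset K := fun s => s.biUnion fun z => Finset.univ.image fun i => e.repr z i
  let F : Finset K := crd E ∪ crd g ∪ crd (S.image (algebraMap k Λ)) ∪ crd {1} ∪
    crd (Finset.univ.image fun p : ι × ι => e p.1 * e p.2) ∪ S.image (algebraMap k K)
  let K₀ : IntermediateField k K := IntermediateField.adjoin k (F : Set K)
  have hcrd : ∀ (s : Finset Λ), crd s ⊆ F → ∀ z ∈ s, ∀ i, e.repr z i ∈ K₀ := fun s hs z hz i =>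
    IntermediateField.subset_adjoin k _ (hs (Finset.mem_biUnion.2 ⟨z, hz, Finset.mem_image.2 ⟨i, by simp, rfl⟩⟩))
  have hF1 : crd E ⊆ F := fun _ h => by simp only [F, Finset.mem_union]; tauto
  have hF2 : crd g ⊆ F := fun _ h => by simp only [F, Finset.mem_union]; tauto
  have hF3 : crd (S.image (algebraMap k Λ)) ⊆ F := fun _ h => by simp only [F, Finset.mem_union]; tauto
  have hF4 : crd {1} ⊆ F := fun _ h => by simp only [F, Finset.mem_union]; tauto
  have hF5 : crd (Finset.univ.image fun p : ι × ι => e p.1 * e p.2) ⊆ F := fun _ h => by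
    simp only [F, Finset.mem_union]; tauto
  have hone : ∀ i, e.repr 1 i ∈ K₀ := hcrd _ hF4 1 (by simp)
  have hmul : ∀ i j l, e.repr (e i * e j) l ∈ K₀ := fun i j =>
    hcrd _ hF5 _ (Finset.mem_image.2 ⟨(i, j), by simp, rfl⟩)
  have hK : ∀ c ∈ K₀, ∀ i, e.repr (algebraMap K Λ c) i ∈ K₀ := fun c hc i => by
    rw [Algebra.algebraMap_eq_smul_one, map_smul, Finsupp.smul_apply, smul_eq_mul]
    exact mul_mem hc (hone i)
  have hk : ∀ a : k, ∀ i, e.repr (algebraMap k Λ a) i ∈ K₀ := by
    let R : Subalgebra P k :=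
      { carrier := {a | ∀ i, e.repr (algebraMap k Λ a) i ∈ K₀}
        algebraMap_mem' := fun c i => by
          rw [h₁ _ (k₁.algebraMap_mem c)]; exact hK _ (K₀.algebraMap_mem _) i
        add_mem' := fun {a b} ha hb i => by rw [map_add, map_add, Finsupp.add_apply]; exact add_mem (ha i) (hb i)
        zero_mem' := fun i => by rw [map_zero, map_zero]; exact zero_mem _
        one_mem' := fun i => by rw [map_one]; exact hone i
        mul_mem' := fun {a b} ha hb l => by
          rw [map_mul, ← e.sum_repr (algebraMap k Λ a), ← e.sum_repr (algebraMap k Λ b), Finset.sum_mul, map_sum,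
            Finsupp.finsetSum_apply]
          refine sum_mem fun i _ => ?_
          rw [Finset.mul_sum, map_sum, Finsupp.finsetSum_apply]
          refine sum_mem fun j _ => ?_
          rw [smul_mul_smul_comm, map_smul, Finsupp.smul_apply, smul_eq_mul]
          exact mul_mem (mul_mem (ha i) (hb j)) (hmul i j l) }
    exact hgen R (fun y hy i => by rw [h₁ y hy]; exact hK _ (K₀.algebraMap_mem _) i)
      (fun y hy => hcrd _ hF3 _ (Finset.mem_image_of_mem _ hy))
      fun y i => by rw [hq]; exact hK _ (K₀.algebraMap_mem _) i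
  let A : Subalgebra k Λ := coordSubalgebra e K₀ hk hmul
  have he : ∀ i, e i ∈ A := fun i j => by
    rw [e.repr_self, Finsupp.single_apply]; split_ifs <;> first | exact one_mem _ | exact zero_mem _
  let σ : K₀ →+* A := ((algebraMap K Λ).comp K₀.val.toRingHom).codRestrict A.toSubring fun c => hK c c.2
  letI algA : Algebra K₀ A := σ.toAlgebra
  have hcoord : ∀ z : A, z = ∑ i, (⟨e.repr z.1 i, z.2 i⟩ : K₀) • (⟨e i, he i⟩ : A) := fun z => by
    refine Subtype.ext ((e.sum_repr z.1).symm.trans ?_)
    rw [AddSubmonoidClass.coe_finsetSum]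
    exact Finset.sum_congr rfl fun i _ => Algebra.smul_def _ _
  have : Module.Finite K₀ A := ⟨Submodule.fg_def.2 ⟨Set.range fun i => (⟨e i, he i⟩ : A), Set.finite_range _,
    top_le_iff.1 fun z _ => (Submodule.mem_span_range_iff_exists_fun _).2 ⟨_, (hcoord z).symm⟩⟩⟩
  have hArt : IsArtinianRing A := IsArtinianRing.of_finite K₀ A
  have hunit : ∀ a : A, IsUnit (a : Λ) → IsUnit a := fun a ha => by
    have hinj : Function.Injective (LinearMap.mulLeft K₀ a) := fun x y h =>
      Subtype.ext (ha.mul_left_cancel (congrArg Subtype.val h))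
    obtain ⟨b, hb⟩ := (LinearMap.injective_iff_surjective.1 hinj) 1
    exact IsUnit.of_mul_eq_one _ hb
  have : IsLocalRing A := IsLocalRing.of_isUnit_or_isUnit_one_sub_self fun a =>
    (IsLocalRing.isUnit_or_isUnit_one_sub_self (a : Λ)).imp (hunit a) fun h => hunit (1 - a) h
  refine ⟨A, this, fun z hz => hcrd _ hF1 z hz, hArt, ?_, ?_, ?_⟩
  · -- flatness
    obtain ⟨c, hc⟩ : ∃ c, c = Module.Free.chooseBasis K₀ K := ⟨_, rfl⟩
    refine @Module.Flat.of_free A Λ _ _ _ (Module.Free.of_basis (Module.Basis.mk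
      (v := fun j => algebraMap K Λ (c j)) ?_ ?_))
    · rw [linearIndependent_iff']
      intro s a hs j hj
      refine Subtype.ext (e.ext_elem fun i => ?_)
      have h := congrArg (fun z => e.repr z i) hs
      simp only [map_sum, map_zero, Finsupp.finsetSum_apply, Finsupp.zero_apply] at h
      have h' : ∑ l ∈ s, (⟨e.repr (a l).1 i, (a l).2 i⟩ : K₀) • c l = 0 := by
        refine Eq.trans (Finset.sum_congr rfl fun l _ => ?_) h
        change _ = e.repr ((a l : Λ) * algebraMap K Λ (c l)) i
        rw [mul_comm, ← Algebra.smul_def, map_smul, Finsupp.smul_apply, smul_eq_mul, mul_comm]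
        rfl
      have h0 := linearIndependent_iff'.1 c.linearIndependent s _ h' j hj
      change e.repr (a j).1 i = e.repr 0 i
      rw [map_zero]
      exact congrArg Subtype.val h0
    · rintro z -
      rw [← e.sum_repr z]
      refine Submodule.sum_mem _ fun i _ => ?_
      have hmem : e.repr z i ∈ Submodule.span K₀ (Set.range c) := c.span_eq ▸ trivial
      revert hmem
      generalize e.repr z i = x
      intro hmem
      induction hmem using Submodule.span_induction with
      | mem x hx =>
        obtain ⟨j, rfl⟩ := hx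
        rw [Algebra.smul_def, mul_comm]
        exact Submodule.smul_mem _ (⟨e i, he i⟩ : A) (Submodule.subset_span ⟨j, rfl⟩)
      | zero => rw [zero_smul]; exact zero_mem _
      | add x y _ _ hx hy => rw [add_smul]; exact add_mem hx hy
      | smul r x _ hx =>
        rw [show (r • x) • e i = algebraMap K Λ r * (x • e i) by
          rw [Algebra.smul_def (R := K₀) r x, mul_smul, ← Algebra.smul_def]; rfl]
        exact Submodule.smul_mem _ (σ r) hx
  · -- essentially of finite type
    rw [Algebra.essFiniteType_iff]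
    let G : Finset A := (Finset.univ.image fun i => (⟨e i, he i⟩ : A)) ∪
      (F.subtype fun c => c ∈ K₀).image σ
    refine ⟨G, ?_⟩
    let T := Algebra.adjoin k (G : Set A)
    let R : Subalgebra k A :=
      { carrier := {y | ∃ t ∈ T, IsUnit t ∧ y * t ∈ T}
        algebraMap_mem' := fun a => ⟨1, one_mem _, isUnit_one, by rw [mul_one]; exact T.algebraMap_mem a⟩
        add_mem' := fun {a b} ⟨t, ht, htu, hat⟩ ⟨t', ht', ht'u, hbt⟩ =>
          ⟨t * t', mul_mem ht ht', htu.mul ht'u, by
            rw [show (a + b) * (t * t') = (a * t) * t' + (b * t') * t by ring]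
            exact add_mem (mul_mem hat ht') (mul_mem hbt ht)⟩
        mul_mem' := fun {a b} ⟨t, ht, htu, hat⟩ ⟨t', ht', ht'u, hbt⟩ =>
          ⟨t * t', mul_mem ht ht', htu.mul ht'u, by
            rw [show a * b * (t * t') = (a * t) * (b * t') by ring]; exact mul_mem hat hbt⟩ }
    have hT : ∀ y ∈ T, y ∈ R := fun y hy => ⟨1, one_mem _, isUnit_one, by rwa [mul_one]⟩
    have hinv : ∀ (y : A) (z : A), y ∈ R → y * z = 1 → z ∈ R := fun y z ⟨t, ht, htu, hyt⟩ hyz => by
      have hzy : IsUnit y := IsUnit.of_mul_eq_one _ hyz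
      refine ⟨y * t, hyt, hzy.mul htu, ?_⟩
      rwa [show z * (y * t) = (y * z) * t by ring, hyz, one_mul]
    have hSR : ∀ a ∈ S, σ (algebraMap k K₀ a) ∈ R := fun a ha => hT _ (Algebra.subset_adjoin (by
      refine Finset.mem_union_right _ (Finset.mem_image.2 ⟨algebraMap k K₀ a, Finset.mem_subtype.2 ?_, rfl⟩)
      exact Finset.mem_union_right _ (Finset.mem_image_of_mem _ ha)))
    have hkR : ∀ a : k, σ (algebraMap k K₀ a) ∈ R := by
      let R' : Subalgebra P k :=
        { carrier := {a | σ (algebraMap k K₀ a) ∈ R}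
          algebraMap_mem' := fun c => by
            change σ _ ∈ R
            rw [show σ (algebraMap k K₀ (algebraMap P k c)) = algebraMap k A (algebraMap P k c) from
              Subtype.ext (h₁ _ (k₁.algebraMap_mem c)).symm]
            exact R.algebraMap_mem _
          add_mem' := fun {a b} ha hb => by
            change σ _ ∈ R; rw [map_add, map_add]; exact add_mem ha hb
          mul_mem' := fun {a b} ha hb => by
            change σ _ ∈ R; rw [map_mul, map_mul]; exact mul_mem ha hb }
      refine hgen R' (fun y hy => ?_) hSR fun y => ?_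
      · change σ _ ∈ R
        rw [show σ (algebraMap k K₀ y) = algebraMap k A y from Subtype.ext (h₁ y hy).symm]
        exact R.algebraMap_mem _
      · change σ _ ∈ R
        rw [show σ (algebraMap k K₀ (y ^ q)) = algebraMap k A (y ^ q) from Subtype.ext (hq y).symm]
        exact R.algebraMap_mem _
    have hKR : ∀ (c : K) (hc : c ∈ K₀), σ ⟨c, hc⟩ ∈ R := by
      intro c hc
      induction hc using IntermediateField.adjoin_induction with
      | mem x hx =>
        exact hT _ (Algebra.subset_adjoin (Finset.mem_union_right _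
          (Finset.mem_image.2 ⟨⟨x, IntermediateField.subset_adjoin k _ hx⟩, Finset.mem_subtype.2 hx, rfl⟩)))
      | algebraMap a => exact hkR a
      | add x y hx hy h1 h2 => rw [show (⟨x + y, add_mem hx hy⟩ : K₀) = ⟨x, hx⟩ + ⟨y, hy⟩ from rfl, map_add]; exact add_mem h1 h2
      | inv x hx h1 =>
        rcases eq_or_ne x 0 with rfl | hx0
        · rw [show (⟨0⁻¹, inv_mem hx⟩ : K₀) = 0 from Subtype.ext inv_zero, map_zero]; exact zero_mem _
        · refine hinv _ _ h1 ?_
          rw [← map_mul, ← map_one σ]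
          exact congrArg σ (Subtype.ext (mul_inv_cancel₀ hx0))
      | mul x y hx hy h1 h2 => rw [show (⟨x * y, mul_mem hx hy⟩ : K₀) = ⟨x, hx⟩ * ⟨y, hy⟩ from rfl, map_mul]; exact mul_mem h1 h2
    intro z
    have hz : z ∈ R := by
      rw [hcoord z]
      refine sum_mem fun i _ => ?_
      rw [Algebra.smul_def]
      exact mul_mem (hKR _ (z.2 i)) (hT _ (Algebra.subset_adjoin
        (Finset.mem_union_left _ (Finset.mem_image.2 ⟨i, Finset.mem_univ _, rfl⟩))))
    exact hz
  · -- maximal ideals
    refine le_antisymm (Ideal.map_le_iff_le_comap.2 fun a ha => ?_) ?_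
    · exact fun hu => ha (hunit a hu)
    · rw [← hg, Ideal.span_le]
      intro z hz
      refine Ideal.mem_map_of_mem (algebraMap A Λ) (I := maximalIdeal A) (x := ⟨z, hcrd _ hF2 z hz⟩) fun hu => ?_
      have hzm : z ∈ maximalIdeal Λ := hg ▸ Submodule.subset_span hz
      exact hzm (hu.map A.val)

end Main

variable {k Λ : Type u} [Field k] (p : ℕ) [Fact p.Prime] [CharP k p] [CommRing Λ] [Algebra k Λ]
  [IsArtinianRing Λ] [IsLocalRing Λ]

include p in
/-- An Artinian local algebra is a union of essentially finite type Artinian local subalgebras. -/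
theorem exists_artinian_subalgebra
    (hH : Module.Finite (ResidueField Λ) (Algebra.H1Cotangent k (ResidueField Λ))) (E : Finset Λ) :
    ∃ (A : Subalgebra k Λ) (_ : IsLocalRing A), (↑E : Set Λ) ⊆ A ∧ IsArtinianRing A ∧ Module.Flat A Λ ∧
      Algebra.EssFiniteType k A ∧
      (IsLocalRing.maximalIdeal A).map (algebraMap A Λ) = IsLocalRing.maximalIdeal Λ := by
  classical
  let K := ResidueField Λ
  let P : Subfield k := ⊥
  letI := Subfield.fintypeBot k p
  have : CharP P p := (RingHom.charP_iff P.subtype Subtype.val_injective p).2 inferInstance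
  have : CharP K p := charP_of_injective_algebraMap (algebraMap k K).injective p
  have : CharP Λ p := charP_of_injective_algebraMap (algebraMap k Λ).injective p
  obtain ⟨k₁, S, hFS, hgen⟩ := exists_cofinite p P k K hH
  obtain ⟨N, hN⟩ := (IsArtinianRing.isNilpotent_jacobson_bot (R := Λ))
  rw [IsLocalRing.jacobson_eq_maximalIdeal ⊥ bot_ne_top] at hN
  obtain ⟨f, hf⟩ := Algebra.FormallySmooth.exists_lift (maximalIdeal Λ) ⟨N, hN⟩ (AlgHom.id k₁ K)
  letI : Algebra K Λ := f.toRingHom.toAlgebra
  have hres : ∀ c, residue Λ (f c) = c := fun c => AlgHom.congr_fun hf c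
  refine exists_subalgebra k₁ S (p ^ N) (fun R h1 h2 h3 => hgen R h1 h2 N h3) (fun c => ⟨c, hres c⟩)
    (fun a ha => (f.commutes ⟨a, ha⟩).symm) (fun a => ?_) E
  have hd : algebraMap k Λ a - f (algebraMap k K a) ∈ maximalIdeal Λ := by
    refine Ideal.Quotient.eq.1 ?_
    exact (hres (algebraMap k K a)).symm
  have h := Ideal.pow_mem_pow hd (p ^ N)
  rw [sub_pow_char_pow] at h
  have h0 : algebraMap k Λ a ^ p ^ N - f (algebraMap k K a) ^ p ^ N = 0 := by
    have := Ideal.pow_le_pow_right (Nat.lt_pow_self (Fact.out : p.Prime).one_lt).le h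
    rwa [hN, Submodule.zero_eq_bot, Submodule.mem_bot] at this
  rw [map_pow, map_pow, map_pow]
  exact sub_eq_zero.1 h0

end Groth.Agent.ArtSub
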